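import Groth.Prelude.Def_W4c1noabschz1DP
import Mathlib

/-!
# The divided power filtration
-/

set_option autoImplicit false

namespace Groth.Agent.FontLift

open W4c1noabschz1 Finset

universe u

variable {S : Type u} [CommRing S] {I : Ideal S} (hI : DividedPowers I)

theorem dpPow_anti {a b : ℕ} (h : a ≤ b) : dpPow hI b ≤ dpPow hI a :=
  Ideal.span_mono fun _ ⟨r, x, n, hx, hn, hz⟩ => ⟨r, x, n, hx, h.trans hn, hz⟩

theorem dpow_mem_dpPow {h : S} (hh : h ∈ I) (k : ℕ) : hI.dpow k h ∈ dpPow hI k :=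
  Ideal.subset_span ⟨1, fun _ => h, fun _ => k, fun _ => hh, by simp, by simp⟩

theorem le_dpPow_one : I ≤ dpPow hI 1 := fun x hx => by
  simpa [hI.dpow_one hx] using dpow_mem_dpPow hI hx 1

theorem dpPow_le_ideal {n : ℕ} (hn : 1 ≤ n) : dpPow hI n ≤ I := by
  refine Ideal.span_le.2 ?_
  rintro _ ⟨r, x, m, hx, hm, rfl⟩
  obtain ⟨i, hi⟩ : ∃ i, m i ≠ 0 := by
    by_contra! h
    simp [h] at hm
    omega
  rw [SetLike.mem_coe, ← Finset.mul_prod_erase univ _ (Finset.mem_univ i)]
  exact Ideal.mul_mem_right _ _ (hI.dpow_mem hi (hx i))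

theorem dpPow_mul {a b : ℕ} : dpPow hI a * dpPow hI b ≤ dpPow hI (a + b) := by
  unfold dpPow
  rw [Ideal.span_mul_span', Ideal.span_le]
  rintro _ ⟨_, ⟨r, x, m, hx, hm, rfl⟩, _, ⟨r', x', m', hx', hm', rfl⟩, rfl⟩
  refine Ideal.subset_span ⟨r + r', Fin.append x x', Fin.append m m', ?_, ?_, ?_⟩
  · refine Fin.addCases (fun i => ?_) (fun i => ?_)
    · rw [Fin.append_left]; exact hx i
    · rw [Fin.append_right]; exact hx' i
  · rw [Fin.sum_univ_add]
    simp only [Fin.append_left, Fin.append_right]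
    omega
  · rw [Fin.prod_univ_add]
    simp only [Fin.append_left, Fin.append_right]

theorem mul_mem_dpPow {a b c : ℕ} {x y : S} (hx : x ∈ dpPow hI a) (hy : y ∈ dpPow hI b) (h : c ≤ a + b) :
    x * y ∈ dpPow hI c :=
  dpPow_anti hI h (dpPow_mul hI (Ideal.mul_mem_mul hx hy))

theorem mem_dpPow_zero (x : S) : x ∈ dpPow hI 0 := by
  have : (1 : S) ∈ dpPow hI 0 := Ideal.subset_span ⟨0, Fin.elim0, Fin.elim0, fun i => i.elim0, by simp, by simp⟩
  simpa using Ideal.mul_mem_left _ x this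

theorem pow_mem_dpPow {a : ℕ} {x : S} (hx : x ∈ dpPow hI a) : ∀ i : ℕ, x ^ i ∈ dpPow hI (a * i)
  | 0 => by simpa using mem_dpPow_zero hI (1 : S)
  | i + 1 => by
    rw [pow_succ]
    exact mul_mem_dpPow hI (pow_mem_dpPow hx i) hx (by rw [Nat.mul_succ])

/-- Divided powers of degree at least two raise the filtration. -/
theorem dpow_mem_succ {n : ℕ} (hn : 1 ≤ n) {y : S} (hy : y ∈ dpPow hI n) :
    ∀ i : ℕ, 2 ≤ i → hI.dpow i y ∈ dpPow hI (n + 1) := by
  classical
  induction hy using Submodule.span_induction with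
  | mem z hz =>
    intro i hi
    obtain ⟨r, x, m, hx, hm, rfl⟩ := hz
    obtain ⟨j, hj⟩ : ∃ j, m j ≠ 0 := by
      by_contra! h
      simp [h] at hm
      omega
    rw [← Finset.mul_prod_erase univ _ (Finset.mem_univ j), mul_comm,
      hI.dpow_mul (hI.dpow_mem hj (hx j)), hI.dpow_comp hj (hx j)]
    have h1 : ∏ k ∈ univ.erase j, hI.dpow (m k) (x k) ∈ dpPow hI (∑ k ∈ univ.erase j, m k) := by
      induction (univ.erase j) using Finset.induction with
      | empty => simpa using mem_dpPow_zero hI (1 : S)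
      | insert k t hk ih =>
        rw [Finset.prod_insert hk, Finset.sum_insert hk]
        exact mul_mem_dpPow hI (dpow_mem_dpPow hI (hx k) _) ih le_rfl
    refine mul_mem_dpPow hI (pow_mem_dpPow hI h1 i)
      (Ideal.mul_mem_left _ _ (dpow_mem_dpPow hI (hx j) (i * m j))) ?_
    have h2 : (∑ k ∈ univ.erase j, m k) * i + i * m j = i * ∑ k, m k := by
      rw [← Finset.add_sum_erase _ _ (Finset.mem_univ j)]; ring
    rw [h2]
    nlinarith
  | zero =>
    intro i hi
    rw [hI.dpow_eval_zero (by omega)]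
    exact zero_mem _
  | add x y hx hy ihx ihy =>
    intro i hi
    rw [hI.dpow_add (dpPow_le_ideal hI hn hx) (dpPow_le_ideal hI hn hy)]
    refine Submodule.sum_mem _ fun k hk => ?_
    rw [Finset.HasAntidiagonal.mem_antidiagonal] at hk
    rcases Nat.lt_or_ge k.1 2 with h1 | h1
    · rcases Nat.lt_or_ge k.2 2 with h2 | h2
      · rw [show k.1 = 1 by omega, show k.2 = 1 by omega, hI.dpow_one (dpPow_le_ideal hI hn hx),
          hI.dpow_one (dpPow_le_ideal hI hn hy)]
        exact mul_mem_dpPow hI hx hy (by omega)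
      · exact Ideal.mul_mem_left _ _ (ihy k.2 h2)
    · exact Ideal.mul_mem_right _ _ (ihx k.1 h1)
  | smul c x hx ih =>
    intro i hi
    rw [smul_eq_mul, hI.dpow_mul (dpPow_le_ideal hI hn hx)]
    exact Ideal.mul_mem_left _ _ (ih i hi)

/-- Divided powers of positive degree stay in the filtration. -/
theorem dpow_mem_self {n : ℕ} (hn : 1 ≤ n) {y : S} (hy : y ∈ dpPow hI n) {i : ℕ} (hi : 1 ≤ i) :
    hI.dpow i y ∈ dpPow hI n := by
  rcases hi.eq_or_lt with rfl | h
  · rwa [hI.dpow_one (dpPow_le_ideal hI hn hy)]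
  · exact dpPow_anti hI (Nat.le_succ n) (dpow_mem_succ hI hn hy i h)

end Groth.Agent.FontLift
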