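import Groth.Agent.FontLift.Rad
import Mathlib

/-!
# Exponentials of derivations with divided powers
-/

set_option autoImplicit false
set_option linter.style.haveILetI false

namespace Groth.Agent.FontLift

open Finset IsLocalRing

universe u v w

section Alg

variable {O : Type u} [CommRing O] {P : Type v} [CommRing P] [Algebra O P]

theorem iterate_leibniz (D : Derivation O P P) (p q : P) : ∀ n : ℕ,
    (⇑D)^[n] (p * q) = ∑ ij ∈ antidiagonal n, (n.choose ij.1 : P) * ((⇑D)^[ij.1] p * (⇑D)^[ij.2] q)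
  | 0 => by simp
  | n + 1 => by
    rw [sum_antidiagonal_choose_succ_mul (fun i j => (⇑D)^[i] p * (⇑D)^[j] q) n,
      Function.iterate_succ_apply', iterate_leibniz D p q n, map_sum, ← Finset.sum_add_distrib]
    refine Finset.sum_congr rfl fun ij h => ?_
    rw [Finset.HasAntidiagonal.mem_antidiagonal] at h
    have h1 : (n.choose ij.2 : P) = (n.choose ij.1 : P) := by
      rw [← h, Nat.choose_symm_add]
    rw [Derivation.leibniz, Derivation.map_natCast, smul_zero, add_zero, Derivation.leibniz, h1,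
      Function.iterate_succ_apply', Function.iterate_succ_apply']
    simp only [smul_eq_mul]
    ring

theorem iterate_map_zero (D : Derivation O P P) (k : ℕ) : (⇑D)^[k] (0 : P) = 0 := by
  induction k with
  | zero => rfl
  | succ k ih => rw [Function.iterate_succ_apply', ih, map_zero]

theorem iterate_map_add (D : Derivation O P P) (p q : P) : ∀ k : ℕ,
    (⇑D)^[k] (p + q) = (⇑D)^[k] p + (⇑D)^[k] q
  | 0 => rfl
  | k + 1 => by simp [Function.iterate_succ_apply', iterate_map_add D p q k]

theorem iterate_algebraMap (D : Derivation O P P) (c : O) {k : ℕ} (hk : k ≠ 0) :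
    (⇑D)^[k] (algebraMap O P c) = 0 := by
  obtain ⟨k, rfl⟩ := Nat.exists_eq_succ_of_ne_zero hk
  rw [Function.iterate_succ_apply, Derivation.map_algebraMap, iterate_map_zero]

/-- The exponential of `h D` when the divided powers of `h` vanish from `K` on. -/
theorem exists_exp_finite {Q : Type w} [CommRing Q] [Algebra O Q] (φ : P →ₐ[O] Q) (D : Derivation O P P)
    (g : ℕ → Q) (g0 : g 0 = 1) (gmul : ∀ i j, g i * g j = ((i + j).choose i : Q) * g (i + j))
    (K : ℕ) (hK : 0 < K) (gK : ∀ k, K ≤ k → g k = 0) :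
    ∃ T : P →ₐ[O] Q, ∀ p, T p = ∑ k ∈ range K, g k * φ ((⇑D)^[k] p) := by
  classical
  have hmul : ∀ p q, (∑ k ∈ range K, g k * φ ((⇑D)^[k] p)) * (∑ k ∈ range K, g k * φ ((⇑D)^[k] q)) =
      ∑ k ∈ range K, g k * φ ((⇑D)^[k] (p * q)) := by
    intro p q
    let F : ℕ × ℕ → Q := fun ij => g ij.1 * φ ((⇑D)^[ij.1] p) * (g ij.2 * φ ((⇑D)^[ij.2] q))
    have hF : ∀ ij : ℕ × ℕ, K ≤ ij.1 + ij.2 → F ij = 0 := fun ij h => by
      simp only [F]
      rw [mul_mul_mul_comm, gmul, gK _ h, mul_zero, zero_mul]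
    have h1 : ∀ k, g k * φ ((⇑D)^[k] (p * q)) = ∑ ij ∈ antidiagonal k, F ij := fun k => by
      rw [iterate_leibniz, map_sum, Finset.mul_sum]
      refine Finset.sum_congr rfl fun ij h => ?_
      rw [Finset.HasAntidiagonal.mem_antidiagonal] at h
      simp only [F, map_mul, map_natCast]
      rw [mul_mul_mul_comm (g ij.1), gmul, h]
      ring
    rw [Finset.sum_congr rfl (fun k _ => h1 k), ← Finset.sum_biUnion, Finset.sum_mul_sum,
      ← Finset.sum_product']
    · refine (Finset.sum_subset (fun ij hij => ?_) fun ij hij hn => ?_).symm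
      · obtain ⟨k, hk, hij⟩ := Finset.mem_biUnion.1 hij
        rw [Finset.HasAntidiagonal.mem_antidiagonal] at hij
        rw [mem_range] at hk
        rw [Finset.mem_product, mem_range, mem_range]
        omega
      · refine hF ij ?_
        by_contra hlt
        exact hn (Finset.mem_biUnion.2 ⟨ij.1 + ij.2, mem_range.2 (by omega),
          Finset.HasAntidiagonal.mem_antidiagonal.2 rfl⟩)
    · intro x _ y _ hxy
      rw [Function.onFun, Finset.disjoint_left]
      intro ij h1 h2
      rw [Finset.HasAntidiagonal.mem_antidiagonal] at h1 h2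
      exact hxy (h1 ▸ h2)
  have hC : ∀ c, ∑ k ∈ range K, g k * φ ((⇑D)^[k] (algebraMap O P c)) = algebraMap O Q c := fun c => by
    rw [Finset.sum_eq_single 0 (fun k _ hk => by rw [iterate_algebraMap D c hk, map_zero, mul_zero])
      (fun h => absurd (mem_range.2 hK) h), g0, one_mul, Function.iterate_zero_apply, φ.commutes]
  exact ⟨{
    toFun := fun p => ∑ k ∈ range K, g k * φ ((⇑D)^[k] p)
    map_one' := by simpa using hC 1
    map_mul' := fun p q => (hmul p q).symm
    map_zero' := by simp [iterate_map_zero]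
    map_add' := fun p q => by simp [iterate_map_add, mul_add, Finset.sum_add_distrib]
    commutes' := hC }, fun p => rfl⟩

end Alg

section Limit

variable (O : Type u) [CommRing O] [IsLocalRing O] [IsNoetherianRing O] [IsAdicComplete (maximalIdeal O) O]
variable {S : Type w} [CommRing S] [Algebra O S] [Module.Finite O S]
variable {I : Ideal S} (hI : DividedPowers I)
variable {P : Type v} [CommRing P] [Algebra O P]

/-- The exponential of `h D`, `h ∈ I`. -/
theorem exists_exp (htn : W4c1noabschz1.IsDPTopNilpotent hI) (θ : P →ₐ[O] S) (D : Derivation O P P)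
    {h : S} (hh : h ∈ I) :
    ∃ T : P →ₐ[O] S, ∀ (p : P) (E : Ideal S) (j : ℕ),
      (∀ k, j ≤ k → hI.dpow k h * θ ((⇑D)^[k] p) ∈ E) →
        T p - ∑ k ∈ range j, hI.dpow k h * θ ((⇑D)^[k] p) ∈ E := by
  classical
  haveI := isAdicComplete_mS O S
  choose q hq using exists_dpPow_le O S htn
  let K : ℕ → ℕ := fun N => 1 + ∑ M ∈ range (N + 1), q M
  have hK : ∀ N k, K N ≤ k → ∀ M ≤ N, hI.dpow k h ∈ mS O S ^ M := fun N k hk M hM => by
    refine hq M (dpPow_anti hI ?_ (dpow_mem_dpPow hI hh k))
    have : q M ≤ ∑ M ∈ range (N + 1), q M := Finset.single_le_sum (f := q) (fun _ _ => Nat.zero_le _) (mem_range.2 (by omega))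
    simp only [K] at hk
    omega
  have hex : ∀ N, ∃ T : P →ₐ[O] S ⧸ mS O S ^ N, ∀ p, T p = ∑ k ∈ range (K N),
      Ideal.Quotient.mk (mS O S ^ N) (hI.dpow k h) * (Ideal.Quotient.mkₐ O _).comp θ ((⇑D)^[k] p) :=
    fun N => exists_exp_finite _ D _ (by rw [hI.dpow_zero hh, map_one])
      (fun i j => by rw [← map_mul, hI.mul_dpow hh, map_mul, map_natCast]) (K N) (by simp [K])
      (fun k hk => Ideal.Quotient.eq_zero_iff_mem.2 (hK N k hk N le_rfl))
  choose T hT using hex
  have hT' : ∀ N p, T N p = Ideal.Quotient.mk (mS O S ^ N)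
      (∑ k ∈ range (K N), hI.dpow k h * θ ((⇑D)^[k] p)) := fun N p => by
    rw [hT, map_sum]
    exact Finset.sum_congr rfl fun k _ => by rw [map_mul]; rfl
  have hKmono : ∀ {M N}, M ≤ N → K M ≤ K N := fun {M N} hMN => by
    simp only [K]
    have : ∑ i ∈ range (M + 1), q i ≤ ∑ i ∈ range (N + 1), q i :=
      Finset.sum_le_sum_of_subset (range_subset_range.2 (by omega))
    omega
  have hcompat : ∀ {M N} (hMN : M ≤ N),
      (Ideal.Quotient.factorₐ O (Ideal.pow_le_pow_right hMN)).comp (T N) = T M := fun {M N} hMN => by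
    refine AlgHom.ext fun p => ?_
    rw [AlgHom.comp_apply, hT', hT']
    show Ideal.Quotient.mk _ _ = _
    rw [Ideal.Quotient.eq, ← Finset.sum_sdiff (range_subset_range.2 (hKmono hMN)), add_sub_cancel_right]
    refine Submodule.sum_mem _ fun k hk => Ideal.mul_mem_right _ _ ?_
    rw [Finset.mem_sdiff, mem_range, mem_range, not_lt] at hk
    exact hK M k hk.2 M le_rfl
  refine ⟨IsAdicComplete.liftAlgHom (mS O S) T hcompat, fun p E j hE => ?_⟩
  refine mem_of_forall_sup O S fun N => ?_
  have h1 : IsAdicComplete.liftAlgHom (mS O S) T hcompat p -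
      ∑ k ∈ range (K N), hI.dpow k h * θ ((⇑D)^[k] p) ∈ mS O S ^ N := by
    rw [← Ideal.Quotient.eq, IsAdicComplete.mk_liftAlgHom, hT']
  rcases le_total j (K N) with hj | hj
  · rw [← Finset.sum_sdiff (range_subset_range.2 hj)] at h1
    have h2 : ∑ k ∈ range (K N) \ range j, hI.dpow k h * θ ((⇑D)^[k] p) ∈ E :=
      Submodule.sum_mem _ fun k hk => hE k (by simpa using (Finset.mem_sdiff.1 hk).2)
    have := add_mem (Ideal.mem_sup_right h1 : _ ∈ E ⊔ mS O S ^ N) (Ideal.mem_sup_left h2)
    convert this using 1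
    ring
  · rw [← Finset.sum_sdiff (range_subset_range.2 hj)]
    have h2 : ∑ k ∈ range j \ range (K N), hI.dpow k h * θ ((⇑D)^[k] p) ∈ mS O S ^ N :=
      Submodule.sum_mem _ fun k hk => Ideal.mul_mem_right _ _
        (hK N k (by simpa using (Finset.mem_sdiff.1 hk).2) N le_rfl)
    have := Ideal.mem_sup_right (sub_mem h1 h2) (S := E)
    convert this using 1
    ring

end Limit

end Groth.Agent.FontLift
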