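import Groth.Agent.FontLift.Exp
import Mathlib

/-!
# Lifting along divided powers

Existence and uniqueness of maps out of `O[[x]]/(f)` along a topologically nilpotent divided power
ideal, from derivations adapted to the relations.
-/

set_option autoImplicit false
set_option linter.style.haveILetI false

namespace Groth.Agent.FontLift

open Finset IsLocalRing MvPowerSeries
open W4c1noabschz1 (dpPow IsDPTopNilpotent)

universe u w

variable {O : Type u} [CommRing O] {m : ℕ}

/-- `(a) + (f)`. -/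
noncomputable def aJ (a : O) (f : Fin m → MvPowerSeries (Fin m) O) : Ideal (MvPowerSeries (Fin m) O) :=
  Ideal.span (Set.range f) ⊔ Ideal.span {algebraMap O _ a}

theorem iterate_mem_aJ {a : O} {f : Fin m → MvPowerSeries (Fin m) O}
    (D : Derivation O (MvPowerSeries (Fin m) O) (MvPowerSeries (Fin m) O)) (hD : ∀ j, D (f j) ∈ aJ a f)
    {p : MvPowerSeries (Fin m) O} (hp : p ∈ aJ a f) : ∀ k, (⇑D)^[k] p ∈ aJ a f := by
  have h1 : ∀ p ∈ aJ a f, D p ∈ aJ a f := by
    intro p hp
    have hgen : aJ a f = Ideal.span (Set.range f ∪ {algebraMap O _ a}) := (Ideal.span_union _ _).symm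
    have hp' := hp
    rw [hgen] at hp'
    induction hp' using Submodule.span_induction with
    | mem z hz =>
      rcases hz with ⟨j, rfl⟩ | rfl
      · exact hD j
      · rw [Derivation.map_algebraMap]; exact zero_mem _
    | zero => rw [map_zero]; exact zero_mem _
    | add x y hx hy ihx ihy =>
      rw [map_add]
      exact add_mem (ihx (hgen ▸ hx)) (ihy (hgen ▸ hy))
    | smul c x hx ih =>
      rw [smul_eq_mul, Derivation.leibniz, smul_eq_mul, smul_eq_mul]
      exact add_mem (Ideal.mul_mem_left _ _ (ih (hgen ▸ hx))) (Ideal.mul_mem_right _ _ (hgen ▸ hx))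
  intro k
  induction k with
  | zero => exact hp
  | succ k ih => rw [Function.iterate_succ_apply']; exact h1 _ ih

variable {S : Type w} [CommRing S] [Algebra O S]

theorem map_mem_of_f {f : Fin m → MvPowerSeries (Fin m) O} {θ : MvPowerSeries (Fin m) O →ₐ[O] S}
    {E : Ideal S} (h : ∀ j, θ (f j) ∈ E) {p : MvPowerSeries (Fin m) O} (hp : p ∈ Ideal.span (Set.range f)) :
    θ p ∈ E :=
  (Ideal.span_le (I := E.comap θ)).2 (by rintro _ ⟨j, rfl⟩; exact h j) hp

theorem map_aJ {a : O} {f : Fin m → MvPowerSeries (Fin m) O} {θ : MvPowerSeries (Fin m) O →ₐ[O] S}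
    (h : ∀ j, θ (f j) ∈ Ideal.span {algebraMap O S a}) {p : MvPowerSeries (Fin m) O} (hp : p ∈ aJ a f) :
    θ p ∈ Ideal.span {algebraMap O S a} :=
  (sup_le (fun q hq => Ideal.mem_comap.2 (map_mem_of_f h hq))
    ((Ideal.span_singleton_le_iff_mem _).2 (Ideal.mem_comap.2 (by
      rw [AlgHom.commutes]; exact Ideal.mem_span_singleton_self _))) :
    aJ a f ≤ (Ideal.span {algebraMap O S a}).comap θ) hp

variable {I : Ideal S} {hI : DividedPowers I}

theorem aI_le_a (b : S) (n : ℕ) : Ideal.span {b} * dpPow hI n ≤ Ideal.span {b} :=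
  Ideal.mul_le_left

theorem aI_anti (b : S) {k n : ℕ} (h : n ≤ k) : Ideal.span {b} * dpPow hI k ≤ Ideal.span {b} * dpPow hI n :=
  Ideal.mul_mono_right (dpPow_anti hI h)

theorem mul_mem_aI {b x y : S} {i j k : ℕ} (hx : x ∈ dpPow hI i) (hy : y ∈ Ideal.span {b} * dpPow hI j)
    (h : k ≤ i + j) : x * y ∈ Ideal.span {b} * dpPow hI k := by
  obtain ⟨z, hz, rfl⟩ := Ideal.mem_span_singleton_mul.1 hy
  rw [mul_left_comm]
  exact Ideal.mem_span_singleton_mul.2 ⟨x * z, mul_mem_dpPow hI hx hz h, rfl⟩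

theorem mul_mem_aI' {b x y : S} {k : ℕ} (hx : x ∈ dpPow hI k) (hy : y ∈ Ideal.span {b}) :
    x * y ∈ Ideal.span {b} * dpPow hI k := by
  rw [mul_comm x y]
  exact Ideal.mul_mem_mul hy hx

variable [IsLocalRing O] [IsNoetherianRing O] [IsAdicComplete (maximalIdeal O) O] [Module.Finite O S]

/-- One step of the exponential. -/
theorem exp_step (htn : IsDPTopNilpotent hI) {a : O} {f : Fin m → MvPowerSeries (Fin m) O}
    (D : Derivation O (MvPowerSeries (Fin m) O) (MvPowerSeries (Fin m) O)) (hD : ∀ j, D (f j) ∈ aJ a f)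
    (θ : MvPowerSeries (Fin m) O →ₐ[O] S) (hθ : ∀ j, θ (f j) ∈ Ideal.span {algebraMap O S a})
    {n : ℕ} (hn : 1 ≤ n) {h : S} (hh : h ∈ dpPow hI n) :
    ∃ T : MvPowerSeries (Fin m) O →ₐ[O] S,
      (∀ p, T p - θ p ∈ dpPow hI n) ∧
      (∀ p, T p - θ p - h * θ (D p) ∈ dpPow hI (n + 1)) ∧
      (∀ p ∈ aJ a f, T p - θ p - h * θ (D p) ∈ Ideal.span {algebraMap O S a} * dpPow hI (n + 1)) ∧
      (∀ p, D (D p) = 0 → T p = θ p + h * θ (D p)) := by
  have hh' : h ∈ I := dpPow_le_ideal hI hn hh
  obtain ⟨T, hT⟩ := exists_exp O hI htn θ D hh'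
  have h2 : ∀ (p : MvPowerSeries (Fin m) O) (E : Ideal S),
      (∀ k, 2 ≤ k → hI.dpow k h * θ ((⇑D)^[k] p) ∈ E) → T p - θ p - h * θ (D p) ∈ E := fun p E hE => by
    have := hT p E 2 hE
    rw [Finset.sum_range_succ, Finset.sum_range_one, hI.dpow_zero hh', hI.dpow_one hh', one_mul,
      Function.iterate_zero_apply, Function.iterate_one] at this
    rwa [sub_sub]
  refine ⟨T, fun p => ?_, fun p => h2 p _ fun k hk => Ideal.mul_mem_right _ _ (dpow_mem_succ hI hn hh k hk),
    fun p hp => h2 p _ fun k hk =>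
      mul_mem_aI' (dpow_mem_succ hI hn hh k hk) (map_aJ hθ (iterate_mem_aJ D hD hp k)),
    fun p hp => ?_⟩
  · have := hT p (dpPow hI n) 1 fun k hk => Ideal.mul_mem_right _ _ (dpow_mem_self hI hn hh hk)
    rwa [Finset.sum_range_one, hI.dpow_zero hh', one_mul, Function.iterate_zero_apply] at this
  · have := h2 p ⊥ fun k hk => by
      obtain ⟨i, rfl⟩ : ∃ i, k = i + 2 := ⟨k - 2, by omega⟩
      rw [Function.iterate_add_apply, show (⇑D)^[2] p = D (D p) from rfl, hp, iterate_map_zero, map_zero,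
        mul_zero]
      exact zero_mem _
    rw [Submodule.mem_bot, sub_sub, sub_eq_zero] at this
    exact this

/-- Newton iteration, one step. -/
theorem newton_step (htn : IsDPTopNilpotent hI) {a : O} {f : Fin m → MvPowerSeries (Fin m) O}
    (D : Fin m → Derivation O (MvPowerSeries (Fin m) O) (MvPowerSeries (Fin m) O))
    (hD : ∀ i j, D i (f j) - (if i = j then algebraMap O _ a else 0) ∈ Ideal.span (Set.range f))
    {n : ℕ} (hn : 1 ≤ n) (θ : MvPowerSeries (Fin m) O →ₐ[O] S)
    (hθ : ∀ j, θ (f j) ∈ Ideal.span {algebraMap O S a} * dpPow hI n) :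
    ∃ T : MvPowerSeries (Fin m) O →ₐ[O] S, (∀ p, T p - θ p ∈ dpPow hI n) ∧
      ∀ j, T (f j) ∈ Ideal.span {algebraMap O S a} * dpPow hI (n + 1) := by
  classical
  set b := algebraMap O S a with hb
  have hDaJ : ∀ i j, D i (f j) ∈ aJ a f := fun i j => by
    have : D i (f j) = (D i (f j) - (if i = j then algebraMap O _ a else 0)) +
        (if i = j then algebraMap O _ a else 0) := by ring
    rw [this]
    refine add_mem (Ideal.mem_sup_left (hD i j)) ?_
    split_ifs
    · exact Ideal.mem_sup_right (Ideal.mem_span_singleton_self _)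
    · exact zero_mem _
  suffices ∀ s : Finset (Fin m), ∃ T : MvPowerSeries (Fin m) O →ₐ[O] S, (∀ p, T p - θ p ∈ dpPow hI n) ∧
      (∀ j, T (f j) ∈ Ideal.span {b} * dpPow hI n) ∧
      ∀ j ∈ s, T (f j) ∈ Ideal.span {b} * dpPow hI (n + 1) by
    obtain ⟨T, h1, -, h3⟩ := this Finset.univ
    exact ⟨T, h1, fun j => h3 j (Finset.mem_univ j)⟩
  intro s
  induction s using Finset.induction with
  | empty => exact ⟨θ, fun p => by simp, hθ, fun j hj => absurd hj (Finset.notMem_empty j)⟩
  | insert i s his ih =>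
    obtain ⟨T, hT1, hT2, hT3⟩ := ih
    obtain ⟨c, hc, hci⟩ := Ideal.mem_span_singleton_mul.1 (hT2 i)
    obtain ⟨T', hT'1, -, hT'3, -⟩ := exp_step htn (D i) (hDaJ i) T
      (fun j => aI_le_a b n (hT2 j)) hn (neg_mem hc)
    have key : ∀ j, T' (f j) - (T (f j) - (if i = j then b * c else 0)) ∈ Ideal.span {b} * dpPow hI (n + 1) := by
      intro j
      have h1 := hT'3 (f j) (Ideal.mem_sup_left (Ideal.subset_span ⟨j, rfl⟩))
      have h2 : -c * T (D i (f j) - (if i = j then algebraMap O _ a else 0)) ∈ Ideal.span {b} * dpPow hI (n + 1) :=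
        mul_mem_aI (neg_mem hc) (map_mem_of_f hT2 (hD i j)) (by omega)
      have := add_mem h1 h2
      convert this using 1
      rw [map_sub]
      split_ifs
      · rw [AlgHom.commutes]; ring
      · rw [map_zero]; ring
    refine ⟨T', fun p => ?_, fun j => ?_, fun j hj => ?_⟩
    · simpa using add_mem (hT'1 p) (hT1 p)
    · have h := add_mem (aI_anti b (Nat.le_succ n) (key j))
        (sub_mem (hT2 j) (show (if i = j then b * c else 0) ∈ Ideal.span {b} * dpPow hI n by
          split_ifs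
          · exact Ideal.mem_span_singleton_mul.2 ⟨c, hc, rfl⟩
          · exact zero_mem _))
      simpa using h
    · rcases Finset.mem_insert.1 hj with rfl | hj
      · have := key j
        rw [if_pos rfl, ← hci, sub_self, sub_zero] at this
        exact this
      · have := key j
        rw [if_neg (fun h : i = j => his (h ▸ hj)), sub_zero] at this
        simpa using add_mem this (hT3 j hj)

/-- An approximate solution is congruent to a solution. -/
theorem exists_solution (htn : IsDPTopNilpotent hI) {a : O} {f : Fin m → MvPowerSeries (Fin m) O}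
    (D : Fin m → Derivation O (MvPowerSeries (Fin m) O) (MvPowerSeries (Fin m) O))
    (hD : ∀ i j, D i (f j) - (if i = j then algebraMap O _ a else 0) ∈ Ideal.span (Set.range f))
    (θ : MvPowerSeries (Fin m) O →ₐ[O] S) (hθ : ∀ j, θ (f j) ∈ Ideal.span {algebraMap O S a} * I) :
    ∃ χ : MvPowerSeries (Fin m) O →ₐ[O] S, (∀ j, χ (f j) = 0) ∧ ∀ p, χ p - θ p ∈ I := by
  classical
  haveI := isAdicComplete_mS O S
  have h1 : ∀ j, θ (f j) ∈ Ideal.span {algebraMap O S a} * dpPow hI (0 + 1) := fun j =>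
    Ideal.mul_mono_right (le_dpPow_one hI) (hθ j)
  let step : ∀ n : ℕ, {T : MvPowerSeries (Fin m) O →ₐ[O] S //
      ∀ j, T (f j) ∈ Ideal.span {algebraMap O S a} * dpPow hI (n + 1)} := fun n =>
    Nat.rec ⟨θ, h1⟩ (fun n T =>
      ⟨(newton_step htn D hD (Nat.le_add_left 1 n) T.1 T.2).choose,
        (newton_step htn D hD (Nat.le_add_left 1 n) T.1 T.2).choose_spec.2⟩) n
  have hsucc : ∀ n p, (step (n + 1)).1 p - (step n).1 p ∈ dpPow hI (n + 1) := fun n p =>
    (newton_step htn D hD (Nat.le_add_left 1 n) (step n).1 (step n).2).choose_spec.1 p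
  have hle : ∀ i j, i ≤ j → ∀ p, (step j).1 p - (step i).1 p ∈ dpPow hI (i + 1) := by
    intro i j hij p
    induction j, hij using Nat.le_induction with
    | base => simp
    | succ j hij ih => simpa using add_mem (dpPow_anti hI (by omega) (hsucc j p)) ih
  choose q hq using exists_dpPow_le O S htn
  let Q : ℕ → ℕ := fun N => ∑ M ∈ range (N + 1), q M
  have hQ : ∀ {M N}, M ≤ N → q M ≤ Q N := fun {M N} h =>
    Finset.single_le_sum (f := q) (fun _ _ => Nat.zero_le _) (mem_range.2 (by omega))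
  let F : ∀ N, MvPowerSeries (Fin m) O →ₐ[O] S ⧸ mS O S ^ N := fun N =>
    (Ideal.Quotient.mkₐ O _).comp (step (Q N)).1
  have hcompat : ∀ {M N} (h : M ≤ N),
      (Ideal.Quotient.factorₐ O (Ideal.pow_le_pow_right h)).comp (F N) = F M := fun {M N} h => by
    refine AlgHom.ext fun p => ?_
    show Ideal.Quotient.mk _ ((step (Q N)).1 p) = Ideal.Quotient.mk _ ((step (Q M)).1 p)
    rw [Ideal.Quotient.eq]
    have hMN : Q M ≤ Q N := Finset.sum_le_sum_of_subset (range_subset_range.2 (by omega))
    exact hq M (dpPow_anti hI (by have := hQ (le_refl M); omega) (hle _ _ hMN p))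
  let χ := IsAdicComplete.liftAlgHom (mS O S) F hcompat
  have hχ : ∀ n p, χ p - (step n).1 p ∈ dpPow hI (n + 1) := fun n p => by
    refine mem_of_forall_sup O S fun N => ?_
    have h2 : χ p - (step (Q N)).1 p ∈ mS O S ^ N := by
      rw [← Ideal.Quotient.eq]
      exact IsAdicComplete.mk_liftAlgHom _ _ _ _ _
    rcases le_total n (Q N) with h | h
    · simpa using add_mem (Ideal.mem_sup_right h2 : _ ∈ dpPow hI (n + 1) ⊔ mS O S ^ N)
        (Ideal.mem_sup_left (hle n (Q N) h p))
    · refine Ideal.mem_sup_right ?_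
      have h3 := hq N (dpPow_anti hI (by have := hQ (le_refl N); omega) (hle (Q N) n h p))
      simpa using sub_mem h2 h3
  refine ⟨χ, fun j => ?_, fun p => dpPow_le_ideal hI le_rfl (hχ 0 p)⟩
  have : χ (f j) ∈ ⨅ k, dpPow hI k := by
    refine (Submodule.mem_iInf _).2 fun k => dpPow_anti hI (Nat.le_succ k) ?_
    simpa using add_mem (hχ k (f j)) (Ideal.mul_le_right ((step k).2 j))
  rwa [htn, Submodule.mem_bot] at this

/-- Uniqueness of solutions congruent modulo `I`. -/
theorem solution_unique (htn : IsDPTopNilpotent hI) {a : O}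
    (hreg : ∀ x : S, algebraMap O S a * x = 0 → x = 0) {f : Fin m → MvPowerSeries (Fin m) O} {r : ℕ}
    (y F : Fin r → MvPowerSeries (Fin m) O)
    (D : Fin r → Derivation O (MvPowerSeries (Fin m) O) (MvPowerSeries (Fin m) O))
    (hDy : ∀ i k, D i (y k) = if i = k then 1 else 0) (hDf : ∀ i j, D i (f j) ∈ aJ a f)
    (hF : ∀ i, F i ∈ Ideal.span (Set.range f))
    (hDF : ∀ i k, D k (F i) - (if k = i then algebraMap O _ a else 0) ∈ Ideal.span (Set.range f))
    (hFd : ∀ i l, pderiv O l (F i) - algebraMap O _ a * pderiv O l (y i) ∈ Ideal.span (Set.range f))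
    (c : Fin m → Fin r → MvPowerSeries (Fin m) O) (v : Fin m → Fin m → MvPowerSeries (Fin m) O)
    (hX : ∀ l l', (if l = l' then 1 else 0) - ∑ i, c l i * pderiv O l' (y i) - ∑ j, v l j * pderiv O l' (f j)
      ∈ Ideal.span (Set.range f))
    (χ χ' : MvPowerSeries (Fin m) O →ₐ[O] S) (hχ : ∀ j, χ (f j) = 0) (hχ' : ∀ j, χ' (f j) = 0)
    (hI' : ∀ p, χ' p - χ p ∈ I) : χ' = χ := by
  classical
  set b := algebraMap O S a with hb
  -- linearization
  have lin : ∀ (θ : MvPowerSeries (Fin m) O →ₐ[O] S) (E : Ideal S), (∀ j, θ (f j) ∈ E) →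
      (∀ l l', (χ' (X l) - θ (X l)) * (χ' (X l') - θ (X l')) ∈ E) →
      (∀ k, χ' (y k) - θ (y k) ∈ E) → ∀ l, χ' (X l) - θ (X l) ∈ E := by
    intro θ E hf hd hy l
    set d := fun l => χ' (X l) - θ (X l)
    have hsum : ∀ p, χ' p - θ p ∈ E → ∑ l', θ (pderiv O l' p) * d l' ∈ E := fun p hp => by
      have := sub_mem hp (sub_sub_sum_mem θ χ' E hd p)
      simpa [d] using this
    have h1 : ∑ l', θ ((if l = l' then 1 else 0) - ∑ i, c l i * pderiv O l' (y i)
        - ∑ j, v l j * pderiv O l' (f j)) * d l' ∈ E :=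
      Submodule.sum_mem _ fun l' _ => Ideal.mul_mem_right _ _ (map_mem_of_f hf (hX l l'))
    have h2 : ∑ i, θ (c l i) * ∑ l', θ (pderiv O l' (y i)) * d l' ∈ E :=
      Submodule.sum_mem _ fun i _ => Ideal.mul_mem_left _ _ (hsum _ (hy i))
    have h3 : ∑ j, θ (v l j) * ∑ l', θ (pderiv O l' (f j)) * d l' ∈ E :=
      Submodule.sum_mem _ fun j _ => Ideal.mul_mem_left _ _ (hsum _ (by
        rw [hχ' j, zero_sub]; exact neg_mem (hf j)))
    have h4 := add_mem (add_mem h1 h2) h3
    have h5 : d l ∈ E := by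
      convert h4 using 1
      simp only [map_sub, map_sum, map_mul, apply_ite θ, map_one, map_zero, sub_mul, Finset.sum_sub_distrib,
        Finset.sum_mul, Finset.mul_sum, ite_mul, one_mul, zero_mul, Finset.sum_ite_eq, Finset.mem_univ, if_true]
      rw [Finset.sum_comm (γ := Fin r), Finset.sum_comm (f := fun (i : Fin m) (j : Fin m) =>
        θ (v l j) * θ (pderiv O i (f j)) * d i)]
      simp only [mul_assoc]
      ring
    exact h5
  have step : ∀ n, 1 ≤ n → (∀ p, χ' p - χ p ∈ dpPow hI n) → ∀ p, χ' p - χ p ∈ dpPow hI (n + 1) := by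
    intro n hn hd
    let h : Fin r → S := fun i => χ' (y i) - χ (y i)
    have hh : ∀ i, h i ∈ dpPow hI n := fun i => hd _
    have hbuild : ∀ s : Finset (Fin r), ∃ θ : MvPowerSeries (Fin m) O →ₐ[O] S,
        (∀ p, θ p - χ p ∈ dpPow hI n) ∧
        (∀ p, θ p - χ p - ∑ i ∈ s, h i * χ (D i p) ∈ dpPow hI (n + 1)) ∧
        (∀ p ∈ aJ a f, θ p - χ p - ∑ i ∈ s, h i * χ (D i p) ∈ Ideal.span {b} * dpPow hI (n + 1)) ∧
        ∀ k, θ (y k) = χ (y k) + if k ∈ s then h k else 0 := by
      intro s
      induction s using Finset.induction with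
      | empty => exact ⟨χ, fun p => by simp, fun p => by simp, fun p _ => by simp, fun k => by simp⟩
      | insert i s his ih =>
        obtain ⟨θ, hθ0, hθ1, hθ2, hθ3⟩ := ih
        have hθa : ∀ p ∈ aJ a f, θ p - χ p ∈ Ideal.span {b} * dpPow hI n := fun p hp => by
          have h1 : ∑ i ∈ s, h i * χ (D i p) ∈ Ideal.span {b} * dpPow hI n :=
            Submodule.sum_mem _ fun j _ => mul_mem_aI' (hh j)
              (map_aJ (fun j => by rw [hχ j]; exact zero_mem _) (by simpa using iterate_mem_aJ (D j) (hDf j) hp 1))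
          simpa using add_mem (aI_anti b (Nat.le_succ n) (hθ2 p hp)) h1
        have hθf : ∀ j, θ (f j) ∈ Ideal.span {b} := fun j => by
          have := hθa (f j) (Ideal.mem_sup_left (Ideal.subset_span ⟨j, rfl⟩))
          rw [hχ j, sub_zero] at this
          exact aI_le_a b n this
        obtain ⟨T, hT0, hT1, hT2, hT3⟩ := exp_step htn (D i) (hDf i) θ hθf hn (hh i)
        refine ⟨T, fun p => by simpa using add_mem (hT0 p) (hθ0 p), fun p => ?_, fun p hp => ?_, fun k => ?_⟩
        · have h1 : h i * (θ (D i p) - χ (D i p)) ∈ dpPow hI (n + 1) :=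
            mul_mem_dpPow hI (hh i) (hθ0 _) (by omega)
          have := add_mem (add_mem (hT1 p) (hθ1 p)) h1
          convert this using 1
          rw [Finset.sum_insert his]
          ring
        · have h1 : h i * (θ (D i p) - χ (D i p)) ∈ Ideal.span {b} * dpPow hI (n + 1) :=
            mul_mem_aI (hh i) (hθa _ (by simpa using iterate_mem_aJ (D i) (hDf i) hp 1)) (by omega)
          have := add_mem (add_mem (hT2 p hp) (hθ2 p hp)) h1
          convert this using 1
          rw [Finset.sum_insert his]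
          ring
        · rw [hT3 (y k) (by rw [hDy]; split_ifs <;> simp), hθ3, hDy]
          by_cases hik : i = k
          · subst hik
            simp [his]
          · simp [hik, Ne.symm hik]
    obtain ⟨θ, hθ0, hθ1, hθ2, hθ3⟩ := hbuild Finset.univ
    have hyeq : ∀ k, χ' (y k) - θ (y k) = 0 := fun k => by
      rw [hθ3, if_pos (Finset.mem_univ k)]
      simp [h]
    have hθf : ∀ j, θ (f j) ∈ Ideal.span {b} * dpPow hI n := fun j => by
      have hj : f j ∈ aJ a f := Ideal.mem_sup_left (Ideal.subset_span ⟨j, rfl⟩)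
      have h1 : ∑ i, h i * χ (D i (f j)) ∈ Ideal.span {b} * dpPow hI n :=
        Submodule.sum_mem _ fun i _ => mul_mem_aI' (hh i)
          (map_aJ (fun j => by rw [hχ j]; exact zero_mem _) (hDf i j))
      simpa [hχ j] using add_mem (aI_anti b (Nat.le_succ n) (hθ2 _ hj)) h1
    have hd0 : ∀ l, χ' (X l) - θ (X l) ∈ dpPow hI n := fun l => by
      simpa using sub_mem (hd (X l)) (hθ0 (X l))
    have hd1 : ∀ k, n ≤ k → ∀ l, χ' (X l) - θ (X l) ∈ Ideal.span {b} * dpPow hI n ⊔ dpPow hI k := by
      intro k hk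
      induction k, hk using Nat.le_induction with
      | base => exact fun l => Ideal.mem_sup_right (hd0 l)
      | succ k hk ih =>
        refine lin θ _ (fun j => Ideal.mem_sup_left (hθf j)) (fun l l' => ?_)
          (fun i => by rw [hyeq]; exact zero_mem _)
        have : (Ideal.span {b} * dpPow hI n ⊔ dpPow hI k) * (Ideal.span {b} * dpPow hI n ⊔ dpPow hI k) ≤
            Ideal.span {b} * dpPow hI n ⊔ dpPow hI (k + 1) := by
          rw [Ideal.sup_mul, Ideal.mul_sup, Ideal.mul_sup]
          refine sup_le (sup_le (le_sup_of_le_left Ideal.mul_le_left) (le_sup_of_le_left Ideal.mul_le_left))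
            (sup_le (le_sup_of_le_left Ideal.mul_le_right)
              (le_sup_of_le_right ((dpPow_mul hI).trans (dpPow_anti hI (by omega)))))
        exact this (Ideal.mul_mem_mul (ih l) (ih l'))
    have hd2 : ∀ l, χ' (X l) - θ (X l) ∈ Ideal.span {b} * dpPow hI n := fun l => by
      refine mem_of_forall_sup O S fun N => ?_
      obtain ⟨q, hq⟩ := exists_dpPow_le O S htn N
      exact sup_le_sup_left ((dpPow_anti hI (le_max_left q n)).trans hq) _ (hd1 _ (le_max_right q n) l)
    have hsq : ∀ l l', (χ' (X l) - θ (X l)) * (χ' (X l') - θ (X l')) ∈ Ideal.span {b} * dpPow hI (n + 1) :=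
      fun l l' => mul_mem_aI (hd0 l) (hd2 l') (by omega)
    have hh1 : ∀ i, h i ∈ dpPow hI (n + 1) := by
      intro i
      have hFi : F i ∈ aJ a f := Ideal.mem_sup_left (hF i)
      have hFχ : χ (F i) = 0 := by simpa using map_mem_of_f (E := ⊥) (fun j => by simp [hχ j]) (hF i)
      have hFχ' : χ' (F i) = 0 := by simpa using map_mem_of_f (E := ⊥) (fun j => by simp [hχ' j]) (hF i)
      have e1 := sub_sub_sum_mem θ χ' _ hsq (F i)
      have e2 := sub_sub_sum_mem θ χ' _ hsq (y i)
      have e3 : ∑ l, θ (pderiv O l (F i) - algebraMap O _ a * pderiv O l (y i)) * (χ' (X l) - θ (X l)) ∈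
          Ideal.span {b} * dpPow hI (n + 1) :=
        Submodule.sum_mem _ fun l _ => by
          rw [mul_comm (θ _) (χ' (X l) - θ (X l))]
          exact mul_mem_aI (hI := hI) (i := n) (j := n) (hd0 l)
            (map_mem_of_f (θ := θ) (E := Ideal.span {b} * dpPow hI n) hθf (hFd i l)) (by omega)
      have e4 : θ (F i) - b * h i ∈ Ideal.span {b} * dpPow hI (n + 1) := by
        have h1 := hθ2 (F i) hFi
        have h2 : ∑ k, h k * χ (D k (F i)) = b * h i := by
          have : ∀ k, χ (D k (F i)) = if k = i then b else 0 := fun k => by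
            have := map_mem_of_f (θ := χ) (E := ⊥) (fun j => by simp [hχ j]) (hDF i k)
            rw [Submodule.mem_bot, map_sub, sub_eq_zero] at this
            rw [this]
            split_ifs <;> simp [hb]
          simp [this, mul_comm]
        rwa [hFχ, sub_zero, h2] at h1
      have e5 : ∑ l, θ (pderiv O l (y i)) * (χ' (X l) - θ (X l)) ∈ Ideal.span {b} * dpPow hI (n + 1) := by
        rw [hyeq i, zero_sub, neg_mem_iff] at e2
        exact e2
      have e6 := add_mem (add_mem (add_mem e1 e3) (Ideal.mul_mem_left _ b e5)) e4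
      have e7 : b * h i ∈ Ideal.span {b} * dpPow hI (n + 1) := by
        rw [← neg_mem_iff]
        convert e6 using 1
        simp only [hFχ', map_sub, map_mul, AlgHom.commutes, sub_mul, Finset.sum_sub_distrib, Finset.mul_sum, mul_assoc]
        ring
      obtain ⟨z, hz, e⟩ := Ideal.mem_span_singleton_mul.1 e7
      have : h i = z := sub_eq_zero.1 (hreg _ (by rw [mul_sub, e, sub_self]))
      rwa [this]
    refine sub_mem_of_X χ' χ _ (lin χ _ (fun j => by rw [hχ j]; exact zero_mem _) (fun l l' => ?_) hh1)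
    exact mul_mem_dpPow hI (hd (X l)) (hd (X l')) (by omega)
  have hall : ∀ n, 1 ≤ n → ∀ p, χ' p - χ p ∈ dpPow hI n := by
    intro n hn
    induction n, hn using Nat.le_induction with
    | base => exact fun p => le_dpPow_one hI (hI' p)
    | succ n hn ih => exact step n hn ih
  refine AlgHom.ext fun p => sub_eq_zero.1 ?_
  have : χ' p - χ p ∈ ⨅ k, dpPow hI k :=
    (Submodule.mem_iInf _).2 fun k => dpPow_anti hI (Nat.le_succ k) (hall (k + 1) (by omega) p)
  rwa [htn, Submodule.mem_bot] at this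

end Groth.Agent.FontLift
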