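import Groth.Agent.FontLift.Main
import Groth.Agent.CplKaehler4.PS
import Mathlib

/-!
# Adapted derivations of a presentation with free differentials modulo `a`
-/

set_option autoImplicit false
set_option linter.style.haveILetI false

namespace Groth.Agent.FontLift

open Finset IsLocalRing MvPowerSeries

universe u v w

variable {O : Type u} [CommRing O] {m : ℕ} {A : Type v} [CommRing A] [Algebra O A]

/-- The Jacobian row of a series, read in `A`. -/
noncomputable def grad (π : MvPowerSeries (Fin m) O →ₐ[O] A) (p : MvPowerSeries (Fin m) O) : Fin m → A :=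
  fun l => π (pderiv O l p)

/-- `A^m → Ω`. -/
noncomputable def dT (π : MvPowerSeries (Fin m) O →ₐ[O] A) : (Fin m → A) →ₗ[A] KaehlerDifferential O A :=
  Fintype.linearCombination A fun l => KaehlerDifferential.D O A (π (X l))

theorem grad_mul (π : MvPowerSeries (Fin m) O →ₐ[O] A) (p q : MvPowerSeries (Fin m) O) :
    grad π (p * q) = π p • grad π q + π q • grad π p := by
  funext l
  simp [grad, Derivation.leibniz]

theorem grad_add (π : MvPowerSeries (Fin m) O →ₐ[O] A) (p q : MvPowerSeries (Fin m) O) :
    grad π (p + q) = grad π p + grad π q := by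
  funext l
  simp [grad]

theorem grad_X (π : MvPowerSeries (Fin m) O →ₐ[O] A) (l : Fin m) :
    grad π (X l) = Pi.single l 1 := by
  funext l'
  simp only [grad]
  by_cases h : l' = l
  · subst h; simp
  · rw [pderiv_X_of_ne (Ne.symm h), map_zero, Pi.single_eq_of_ne h]

theorem grad_mem_of_mem (π : MvPowerSeries (Fin m) O →ₐ[O] A) {f : Fin m → MvPowerSeries (Fin m) O}
    (hf : ∀ j, π (f j) = 0) {p : MvPowerSeries (Fin m) O} (hp : p ∈ Ideal.span (Set.range f)) :
    grad π p ∈ Submodule.span A (Set.range fun j => grad π (f j)) := by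
  obtain ⟨c, rfl⟩ := Ideal.mem_span_range_iff_exists_fun.1 hp
  rw [show grad π (∑ j, c j * f j) = ∑ j, grad π (c j * f j) from by
    funext l; simp [grad, map_sum]]
  refine Submodule.sum_mem _ fun j _ => ?_
  rw [grad_mul, hf j, zero_smul, add_zero]
  exact Submodule.smul_mem _ _ (Submodule.subset_span ⟨j, rfl⟩)

section Complete

variable [IsLocalRing O] [IsNoetherianRing O] [IsAdicComplete (maximalIdeal O) O] [Module.Finite O A]

theorem D_eq_dT (π : MvPowerSeries (Fin m) O →ₐ[O] A) (hπ : Function.Surjective π)
    (p : MvPowerSeries (Fin m) O) : KaehlerDifferential.D O A (π p) = dT π (grad π p) := by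
  letI : Algebra (MvPowerSeries (Fin m) O) A := π.toRingHom.toAlgebra
  haveI : IsScalarTower O (MvPowerSeries (Fin m) O) A :=
    IsScalarTower.of_algebraMap_eq fun r => (π.commutes r).symm
  haveI : Module.Finite (MvPowerSeries (Fin m) O) A :=
    Module.Finite.of_surjective (Algebra.linearMap (MvPowerSeries (Fin m) O) A) hπ
  haveI : Module.Finite (MvPowerSeries (Fin m) O) (KaehlerDifferential O A) := Module.Finite.trans A _
  haveI : IsHausdorff (PSLib.vars m O) (KaehlerDifferential O A) :=
    IsHausdorff.of_le_jacobson _ _ PSLib.vars_le_jacobson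
  have := CplKaehler4.derivation_eq_sum ((KaehlerDifferential.D O A).compAlgebraMap (MvPowerSeries (Fin m) O)) p
  refine this.trans ?_
  rw [dT, Fintype.linearCombination_apply]
  refine Finset.sum_congr rfl fun l _ => ?_
  rw [← IsScalarTower.algebraMap_smul A (pderiv O l p)]
  rfl

theorem ker_dT_le (π : MvPowerSeries (Fin m) O →ₐ[O] A) (hπ : Function.Surjective π)
    (f : Fin m → MvPowerSeries (Fin m) O) (hker : ∀ p, π p = 0 ↔ p ∈ Ideal.span (Set.range f))
    {v : Fin m → A} (hv : dT π v = 0) : v ∈ Submodule.span A (Set.range fun j => grad π (f j)) := by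
  have hf : ∀ j, π (f j) = 0 := fun j => (hker _).2 (Ideal.subset_span ⟨j, rfl⟩)
  let R := Submodule.span A (Set.range fun j => grad π (f j))
  let g : A → (Fin m → A) ⧸ R := fun x => Submodule.Quotient.mk (grad π (Function.surjInv hπ x))
  have hg : ∀ p, g (π p) = Submodule.Quotient.mk (grad π p) := fun p => by
    rw [Submodule.Quotient.eq]
    have h1 : Function.surjInv hπ (π p) - p ∈ Ideal.span (Set.range f) :=
      (hker _).1 (by rw [map_sub, Function.surjInv_eq hπ, sub_self])
    have : grad π (Function.surjInv hπ (π p)) - grad π p = grad π (Function.surjInv hπ (π p) - p) := by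
      funext l; simp [grad]
    rw [this]
    exact grad_mem_of_mem π hf h1
  let δ : Derivation O A ((Fin m → A) ⧸ R) :=
    { toFun := g
      map_add' := fun x y => by
        obtain ⟨p, rfl⟩ := hπ x; obtain ⟨q, rfl⟩ := hπ y
        rw [← map_add, hg, hg, hg, grad_add, Submodule.Quotient.mk_add]
      map_smul' := fun c x => by
        obtain ⟨p, rfl⟩ := hπ x
        rw [RingHom.id_apply, ← map_smul, hg, hg,
          show grad π (c • p) = c • grad π p from funext fun l => by simp [grad]]
        rfl
      map_one_eq_zero' := by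
        show g 1 = 0
        rw [← map_one π, hg, show grad π 1 = 0 from funext fun l => by simp [grad]]
        rfl
      leibniz' := fun x y => by
        obtain ⟨p, rfl⟩ := hπ x; obtain ⟨q, rfl⟩ := hπ y
        show g (π p * π q) = π p • g (π q) + π q • g (π p)
        rw [← map_mul, hg, hg, hg, grad_mul, Submodule.Quotient.mk_add, Submodule.Quotient.mk_smul,
          Submodule.Quotient.mk_smul] }
  have h1 : (δ.liftKaehlerDifferential.comp (dT π)) = R.mkQ := by
    refine LinearMap.pi_ext' fun l => LinearMap.ext_ring ?_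
    rw [LinearMap.comp_apply, LinearMap.comp_apply, LinearMap.comp_apply, dT,
      LinearMap.single_apply, Fintype.linearCombination_apply_single, one_smul,
      Derivation.liftKaehlerDifferential_comp_D]
    show g (π (X l)) = _
    rw [hg, grad_X]
    rfl
  rw [← Submodule.Quotient.mk_eq_zero, ← Submodule.mkQ_apply, ← h1, LinearMap.comp_apply, hv, map_zero]

/-- `a` kills the differentials: derivations with Jacobian `a`. -/
theorem exists_newton_derivations (π : MvPowerSeries (Fin m) O →ₐ[O] A) (hπ : Function.Surjective π)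
    (f : Fin m → MvPowerSeries (Fin m) O) (hker : ∀ p, π p = 0 ↔ p ∈ Ideal.span (Set.range f)) (a : O)
    (hreg : ∀ x : A, algebraMap O A a * x = 0 → x = 0)
    (hkill : ∀ ω : KaehlerDifferential O A, algebraMap O A a • ω = 0) :
    ∃ D : Fin m → Derivation O (MvPowerSeries (Fin m) O) (MvPowerSeries (Fin m) O),
      ∀ i j, D i (f j) - (if i = j then algebraMap O _ a else 0) ∈ Ideal.span (Set.range f) := by
  classical
  set b := algebraMap O A a
  let G : Matrix (Fin m) (Fin m) A := fun j l => π (pderiv O l (f j))
  have h1 : ∀ l, ∃ w : Fin m → A, ∑ j, w j • grad π (f j) = b • Pi.single l 1 := fun l =>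
    (Submodule.mem_span_range_iff_exists_fun A).1 (ker_dT_le π hπ f hker (by rw [map_smul, hkill]))
  choose N hN using h1
  have hNG : (Matrix.of N) * G = b • (1 : Matrix (Fin m) (Fin m) A) := by
    funext l l'
    have := congrFun (hN l) l'
    simp only [Finset.sum_apply, Pi.smul_apply, smul_eq_mul, grad] at this
    rw [Matrix.mul_apply, Matrix.smul_apply, smul_eq_mul]
    refine this.trans ?_
    rw [Pi.single_apply, Matrix.one_apply]
    simp [eq_comm]
  have hdet : ∀ x : A, G.det * x = 0 → x = 0 := by
    intro x hx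
    have h2 : b ^ m * x = 0 := by
      have := congrArg Matrix.det hNG
      rw [Matrix.det_mul, Matrix.det_smul, Matrix.det_one, mul_one, Fintype.card_fin] at this
      rw [← this, mul_assoc, hx, mul_zero]
    clear hx
    have : ∀ k, b ^ k * x = 0 → x = 0 := by
      intro k
      induction k with
      | zero => simp
      | succ k ih => exact fun h => ih (hreg _ (by rw [← mul_assoc, ← pow_succ']; exact h))
    exact this m h2
  have hGN : G * Matrix.of N = b • (1 : Matrix (Fin m) (Fin m) A) := by
    have h2 : (G * Matrix.of N - b • 1) * G = 0 := by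
      rw [sub_mul, Matrix.mul_assoc, hNG, Matrix.mul_smul, Matrix.smul_mul, Matrix.mul_one, Matrix.one_mul, sub_self]
    have h3 := congrArg (· * G.adjugate) h2
    simp only [Matrix.zero_mul, Matrix.mul_assoc, Matrix.mul_adjugate, Matrix.mul_smul, Matrix.mul_one] at h3
    refine sub_eq_zero.1 (Matrix.ext fun i j => hdet _ ?_)
    exact congrFun (congrFun h3 i) j
  choose L hL using fun l i => hπ (N l i)
  refine ⟨fun i => ∑ l, L l i • pderiv O l, fun i j => (hker _).1 ?_⟩
  have hval : (∑ l, L l i • pderiv O l) (f j) = ∑ l, L l i * pderiv O l (f j) := by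
    rw [← Derivation.coeFnAddMonoidHom_apply, map_sum, Finset.sum_apply]
    rfl
  have h4 := congrFun (congrFun hGN j) i
  rw [Matrix.mul_apply, Matrix.smul_apply, Matrix.one_apply, smul_eq_mul] at h4
  rw [map_sub, hval, map_sum, sub_eq_zero]
  simp only [map_mul, hL, apply_ite π, AlgHom.commutes, map_zero]
  rw [Finset.sum_congr rfl fun l _ => mul_comm (N l i) _]
  refine h4.trans ?_
  simp [b, eq_comm]

/-- Free differentials modulo `a`: the data for uniqueness. -/
theorem exists_uniqueness_data (π : MvPowerSeries (Fin m) O →ₐ[O] A) (hπ : Function.Surjective π)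
    (f : Fin m → MvPowerSeries (Fin m) O) (hker : ∀ p, π p = 0 ↔ p ∈ Ideal.span (Set.range f)) (a : O)
    {r : ℕ} (e : KaehlerDifferential O A ≃ₗ[A] (Fin r → A ⧸ Ideal.span {algebraMap O A a})) :
    ∃ (s : ℕ) (y F : Fin s → MvPowerSeries (Fin m) O)
      (D : Fin s → Derivation O (MvPowerSeries (Fin m) O) (MvPowerSeries (Fin m) O))
      (c : Fin m → Fin s → MvPowerSeries (Fin m) O) (v : Fin m → Fin m → MvPowerSeries (Fin m) O),
      (∀ i k, D i (y k) = if i = k then 1 else 0) ∧ (∀ i j, D i (f j) ∈ aJ a f) ∧
      (∀ i, F i ∈ Ideal.span (Set.range f)) ∧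
      (∀ i k, D k (F i) - (if k = i then algebraMap O _ a else 0) ∈ Ideal.span (Set.range f)) ∧
      (∀ i l, pderiv O l (F i) - algebraMap O _ a * pderiv O l (y i) ∈ Ideal.span (Set.range f)) ∧
      ∀ l l', (if l = l' then 1 else 0) - ∑ i, c l i * pderiv O l' (y i) - ∑ j, v l j * pderiv O l' (f j)
        ∈ Ideal.span (Set.range f) := by
  classical
  set b := algebraMap O A a with hb
  have hf : ∀ j, π (f j) = 0 := fun j => (hker _).2 (Ideal.subset_span ⟨j, rfl⟩)
  have hkill : ∀ ω : KaehlerDifferential O A, b • ω = 0 := fun ω => e.injective (by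
    rw [map_smul, map_zero]
    funext i
    obtain ⟨z, hz⟩ := Ideal.Quotient.mk_surjective (e ω i)
    rw [Pi.smul_apply, ← hz]
    show Ideal.Quotient.mk _ (b * z) = 0
    rw [map_mul, Ideal.Quotient.eq_zero_iff_mem.2 (Ideal.mem_span_singleton_self b), zero_mul])
  have hXdata : ∀ (s : ℕ) (y : Fin s → MvPowerSeries (Fin m) O) (c : Fin m → Fin s → MvPowerSeries (Fin m) O),
      (∀ l, dT π (Pi.single l 1 - ∑ i, π (c l i) • grad π (y i)) = 0) →
      ∃ v : Fin m → Fin m → MvPowerSeries (Fin m) O, ∀ l l',
        (if l = l' then 1 else 0) - ∑ i, c l i * pderiv O l' (y i) - ∑ j, v l j * pderiv O l' (f j)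
          ∈ Ideal.span (Set.range f) := by
    intro s y c hc
    choose w hw using fun l => (Submodule.mem_span_range_iff_exists_fun A).1 (ker_dT_le π hπ f hker (hc l))
    choose v hv using fun l j => hπ (w l j)
    refine ⟨v, fun l l' => (hker _).1 ?_⟩
    have := congrFun (hw l) l'
    simp only [Finset.sum_apply, Pi.smul_apply, Pi.sub_apply, smul_eq_mul, grad] at this
    simp only [map_sub, map_sum, map_mul, hv, this, apply_ite π, map_one, map_zero, Pi.single_apply]
    simp [eq_comm]
  by_cases hu : IsUnit b
  · have hΩ : ∀ ω : KaehlerDifferential O A, ω = 0 := fun ω => by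
      obtain ⟨u, hu⟩ := hu
      rw [← one_smul A ω, ← u.inv_mul, mul_smul, hu, hkill, smul_zero]
    obtain ⟨v, hv⟩ := hXdata 0 Fin.elim0 (fun _ => Fin.elim0) fun l => hΩ _
    exact ⟨0, Fin.elim0, Fin.elim0, Fin.elim0, fun _ => Fin.elim0, v, fun i => i.elim0, fun i => i.elim0,
      fun i => i.elim0, fun i => i.elim0, fun i => i.elim0, hv⟩
  haveI : Nontrivial A := not_subsingleton_iff_nontrivial.1 fun h => hu (isUnit_of_subsingleton b)
  haveI : IsLocalRing A := IsLocalRing.of_surjective' π.toRingHom hπ
  have hunit : ∀ p, IsUnit (π p) → IsUnit p := fun p hp => by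
    by_contra h
    have hle : maximalIdeal (MvPowerSeries (Fin m) O) ≤ (maximalIdeal A).comap π.toRingHom :=
      (IsLocalRing.eq_maximalIdeal (Ideal.comap_isMaximal_of_surjective π.toRingHom hπ)).ge
    exact (mem_maximalIdeal _).1 (hle ((mem_maximalIdeal p).2 h)) hp
  have hX : ∀ l, π (X l) ∈ maximalIdeal A := fun l => (mem_maximalIdeal _).2 fun h => by
    have := MvPowerSeries.isUnit_iff_constantCoeff.1 (hunit _ h)
    rw [constantCoeff_X] at this
    exact not_isUnit_zero this
  have hsurj : ∀ ω, ∃ x : Fin m → A, dT π x = ω := by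
    intro ω
    have hω : ω ∈ Submodule.span A (Set.range (KaehlerDifferential.D O A)) := by
      rw [KaehlerDifferential.span_range_derivation]; trivial
    have : Submodule.span A (Set.range (KaehlerDifferential.D O A)) ≤ LinearMap.range (dT π) := by
      rw [Submodule.span_le]
      rintro _ ⟨x, rfl⟩
      obtain ⟨p, rfl⟩ := hπ x
      exact ⟨grad π p, (D_eq_dT π hπ p).symm⟩
    exact this hω
  choose bb hbb using fun i => hsurj (e.symm (Pi.single i 1))
  choose B hB using fun i l => hπ (bb i l)
  let y : Fin r → MvPowerSeries (Fin m) O := fun i => ∑ l, B i l * X l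
  choose C hC using fun l k => (Ideal.Quotient.mk_surjective (I := Ideal.span {b})).comp hπ
    (e (KaehlerDifferential.D O A (π (X l))) k)
  have hcoord : ∀ (x : Fin m → A) k, e (dT π x) k = Ideal.Quotient.mk _ (∑ l, x l * π (C l k)) := by
    intro x k
    rw [dT, Fintype.linearCombination_apply, map_sum, Finset.sum_apply, map_sum]
    refine Finset.sum_congr rfl fun l _ => ?_
    rw [map_smul, Pi.smul_apply, ← hC, map_mul]
    rfl
  let M : Matrix (Fin r) (Fin r) (MvPowerSeries (Fin m) O) := fun i k => ∑ l, pderiv O l (y i) * C l k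
  have hM : ∀ i k, π (M i k) - (if i = k then 1 else 0) ∈ maximalIdeal A := by
    intro i k
    have h1 : grad π (y i) - bb i ∈ (maximalIdeal A) • (⊤ : Submodule A (Fin m → A)) := by
      have e1 : grad π (y i) - bb i = ∑ l, π (X l) • grad π (B i l) := by
        have e2 : grad π (y i) = ∑ l, grad π (B i l * X l) := by funext l; simp [grad, y, map_sum]
        rw [e2, Finset.sum_congr rfl fun l _ => grad_mul π (B i l) (X l), Finset.sum_add_distrib,
          Finset.sum_congr rfl (fun l _ => by rw [grad_X, hB] :
            ∀ l ∈ Finset.univ, π (B i l) • grad π (X l) = bb i l • (Pi.single l 1 : Fin m → A))]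
        rw [← pi_eq_sum_univ' (bb i)]
        abel
      rw [e1]
      exact Submodule.sum_mem _ fun l _ => Submodule.smul_mem_smul (hX l) trivial
    have h2 : ∀ l, π (pderiv O l (y i)) - bb i l ∈ maximalIdeal A := fun l => by
      have := Submodule.mem_map_of_mem (f := (LinearMap.proj l : (Fin m → A) →ₗ[A] A)) h1
      rw [Submodule.map_smul''] at this
      have h3 := Submodule.smul_mono (le_refl (maximalIdeal A)) (le_top : _ ≤ (⊤ : Submodule A A)) this
      rwa [smul_eq_mul, Ideal.mul_top] at h3
    have h3 : e (dT π (bb i)) k = Ideal.Quotient.mk _ (if i = k then (1 : A) else 0) := by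
      rw [hbb, LinearEquiv.apply_symm_apply, Pi.single_apply, apply_ite (Ideal.Quotient.mk _), map_one, map_zero]
      simp [eq_comm]
    rw [hcoord, Ideal.Quotient.eq] at h3
    have h4 : ∑ l, bb i l * π (C l k) - (if i = k then 1 else 0) ∈ maximalIdeal A :=
      (Ideal.span_singleton_le_iff_mem _).2 ((mem_maximalIdeal b).2 hu) h3
    have h5 : ∑ l, (π (pderiv O l (y i)) - bb i l) * π (C l k) ∈ maximalIdeal A :=
      Submodule.sum_mem _ fun l _ => Ideal.mul_mem_right _ _ (h2 l)
    have := add_mem h5 h4
    convert this using 1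
    simp only [M, map_sum, map_mul, sub_mul, Finset.sum_sub_distrib]
    ring
  have hMdet : IsUnit M.det := by
    refine hunit _ ?_
    rw [← IsLocalRing.residue_ne_zero_iff_isUnit]
    have hmap : M.map ((residue A).comp π.toRingHom) = 1 := by
      refine Matrix.ext fun i k => ?_
      rw [Matrix.map_apply, Matrix.one_apply, RingHom.comp_apply]
      show residue A (π (M i k)) = _
      have := (residue_eq_zero_iff _).2 (hM i k)
      rw [map_sub, sub_eq_zero] at this
      rw [this]
      split_ifs <;> simp
    have := RingHom.map_det ((residue A).comp π.toRingHom) M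
    rw [RingHom.mapMatrix_apply, hmap, Matrix.det_one] at this
    show ((residue A).comp π.toRingHom) M.det ≠ 0
    rw [this]
    exact one_ne_zero
  let W := M⁻¹
  let c : Fin m → Fin r → MvPowerSeries (Fin m) O := fun l i => ∑ k, C l k * W k i
  let D : Fin r → Derivation O (MvPowerSeries (Fin m) O) (MvPowerSeries (Fin m) O) :=
    fun i => ∑ l, c l i • pderiv O l
  have hDv : ∀ i p, D i p = ∑ k, (∑ l, pderiv O l p * C l k) * W k i := by
    intro i p
    have : D i p = ∑ l, c l i * pderiv O l p := by
      show (∑ l, c l i • pderiv O l) p = _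
      rw [← Derivation.coeFnAddMonoidHom_apply, map_sum, Finset.sum_apply]
      rfl
    rw [this]
    simp only [c, Finset.sum_mul]
    rw [Finset.sum_comm]
    exact Finset.sum_congr rfl fun k _ => Finset.sum_congr rfl fun l _ => by ring
  have hDy : ∀ i k, D i (y k) = if i = k then 1 else 0 := fun i k => by
    have := congrFun (congrFun (Matrix.mul_nonsing_inv M hMdet) k) i
    rw [Matrix.mul_apply, Matrix.one_apply] at this
    rw [hDv]
    refine this.trans ?_
    simp [eq_comm]
  have hDf : ∀ i j, D i (f j) ∈ aJ a f := fun i j => by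
    rw [hDv]
    refine Submodule.sum_mem _ fun k _ => Ideal.mul_mem_right _ _ ?_
    have h1 : e (dT π (grad π (f j))) k = 0 := by
      rw [← D_eq_dT π hπ, hf j, map_zero, map_zero, Pi.zero_apply]
    rw [hcoord, Ideal.Quotient.eq_zero_iff_mem, Ideal.mem_span_singleton'] at h1
    obtain ⟨z, hz⟩ := h1
    obtain ⟨Z, rfl⟩ := hπ z
    have h2 : (∑ l, pderiv O l (f j) * C l k) - Z * algebraMap O _ a ∈ Ideal.span (Set.range f) := (hker _).1 (by
      rw [map_sub, map_mul, AlgHom.commutes, ← hb, hz, map_sum, sub_eq_zero]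
      simp [grad])
    have h3 : Z * algebraMap O _ a ∈ aJ a f :=
      Ideal.mem_sup_right (Ideal.mul_mem_left _ Z (Ideal.mem_span_singleton_self (algebraMap O _ a)))
    have h4 : (∑ l, pderiv O l (f j) * C l k) - Z * algebraMap O _ a ∈ aJ a f := Ideal.mem_sup_left h2
    simpa using add_mem h4 h3
  have hcX : ∀ l, dT π (Pi.single l 1 - ∑ i, π (c l i) • grad π (y i)) = 0 := fun l => e.injective (by
    rw [map_zero]
    funext k
    rw [hcoord, Pi.zero_apply, Ideal.Quotient.eq_zero_iff_mem]
    have h1 : ∑ i, c l i * M i k = C l k := by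
      have := congrFun (congrFun (show (Matrix.of C) * (W * M) = Matrix.of C by
        rw [Matrix.nonsing_inv_mul M hMdet, Matrix.mul_one]) l) k
      rw [← Matrix.mul_assoc, Matrix.mul_apply] at this
      simp only [Matrix.of_apply] at this
      rw [← this]
      exact Finset.sum_congr rfl fun i _ => by rw [Matrix.mul_apply]; rfl
    have h2 : ∑ l', ((Pi.single l 1 : Fin m → A) - ∑ i, π (c l i) • grad π (y i)) l' * π (C l' k) = 0 := by
      have h3 : ∑ l', (∑ i, π (c l i) • grad π (y i)) l' * π (C l' k) = π (∑ i, c l i * M i k) := by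
        simp only [M, grad, Finset.sum_apply, Pi.smul_apply, smul_eq_mul, Finset.sum_mul, Finset.mul_sum,
          map_sum, map_mul]
        rw [Finset.sum_comm]
        simp only [mul_assoc]
      simp only [Pi.sub_apply, sub_mul, Finset.sum_sub_distrib, h3, h1]
      simp [Pi.single_apply]
    rw [h2]
    exact zero_mem _)
  obtain ⟨v, hv⟩ := hXdata r y c hcX
  choose L hL using fun i => (Submodule.mem_span_range_iff_exists_fun A).1
    (ker_dT_le π hπ f hker (show dT π (b • grad π (y i)) = 0 by rw [map_smul, hkill]))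
  choose L' hL' using fun i j => hπ (L i j)
  let F : Fin r → MvPowerSeries (Fin m) O := fun i => ∑ j, L' i j * f j
  have hFmem : ∀ i, F i ∈ Ideal.span (Set.range f) := fun i =>
    Submodule.sum_mem _ fun j _ => Ideal.mul_mem_left _ _ (Ideal.subset_span ⟨j, rfl⟩)
  have hFd : ∀ i l, pderiv O l (F i) - algebraMap O _ a * pderiv O l (y i) ∈ Ideal.span (Set.range f) :=
    fun i l => (hker _).1 (by
      have h := congrFun (hL i) l
      simp only [Finset.sum_apply, Pi.smul_apply, smul_eq_mul, grad] at h
      rw [map_sub, map_mul, AlgHom.commutes, ← hb, ← h, sub_eq_zero]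
      simp [F, map_sum, Derivation.leibniz, hf, hL'])
  refine ⟨r, y, F, D, c, v, hDy, hDf, hFmem, fun i k => (hker _).1 ?_, hFd, hv⟩
  have h1 : π (D k (F i)) = π (algebraMap O _ a * D k (y i)) := by
    rw [hDv, hDv, map_mul, map_sum, map_sum, Finset.mul_sum]
    refine Finset.sum_congr rfl fun k' _ => ?_
    simp only [map_mul, map_sum, Finset.mul_sum, Finset.sum_mul]
    refine Finset.sum_congr rfl fun l _ => ?_
    have := (hker _).2 (hFd i l)
    rw [map_sub, map_mul, sub_eq_zero] at this
    rw [this]
    ring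
  rw [map_sub, h1, hDy, sub_eq_zero]
  split_ifs <;> simp

end Complete

end Groth.Agent.FontLift
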