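import Groth.Agent.PSLib.Basic
import Groth.Agent.AdicLib.Basic
import Groth.Agent.ArtFunLib.Hull.Ring
import Groth.Agent.FontLift.DP
import Mathlib

/-!
# Finite algebras over a complete discrete valuation ring

`S` is finite over a complete Noetherian local ring `O`: closed ideals, Chevalley's lemma, maps out of
power series.
-/

set_option autoImplicit false
set_option linter.style.haveILetI false

namespace Groth.Agent.FontLift

open IsLocalRing MvPowerSeries

universe u w

variable (O : Type u) [CommRing O] [IsLocalRing O] [IsNoetherianRing O] [IsAdicComplete (maximalIdeal O) O]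
variable (S : Type w) [CommRing S] [Algebra O S] [Module.Finite O S]

/-- The ideal generated by the maximal ideal of `O`. -/
noncomputable abbrev mS : Ideal S := (maximalIdeal O).map (algebraMap O S)

include O in
omit [IsAdicComplete (maximalIdeal O) O] [IsLocalRing O] in
theorem isNoetherian_S : IsNoetherianRing S :=
  isNoetherianRing_iff.2 (isNoetherian_of_tower O inferInstance)

theorem isAdicComplete_mS : IsAdicComplete (mS O S) S :=
  (IsAdicComplete.map_algebraMap_iff (R := O) (S := S) (maximalIdeal O) (M := S)).2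
    (AdicLib.isAdicComplete_of_finite (maximalIdeal O) S)

theorem mS_le_jac : mS O S ≤ Ideal.jacobson ⊥ :=
  haveI := isAdicComplete_mS O S
  IsAdicComplete.le_jacobson_bot _

omit [IsAdicComplete (maximalIdeal O) O] in
theorem isArtinian_quot (N : ℕ) : IsArtinianRing (S ⧸ mS O S ^ N) := by
  rcases Nat.eq_zero_or_pos N with rfl | hN
  · haveI : Subsingleton (S ⧸ mS O S ^ 0) := Ideal.Quotient.subsingleton_iff.2 (by simp)
    infer_instance
  let R := O ⧸ maximalIdeal O ^ N
  haveI : IsArtinianRing R := ArtFunLib.Hull.isArtinianRing_quotient_pow (maximalIdeal O) N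
  let f : R →+* S ⧸ mS O S ^ N := Ideal.quotientMap _ (algebraMap O S) (by
    rw [← Ideal.map_le_iff_le_comap, Ideal.map_pow])
  letI : Algebra R (S ⧸ mS O S ^ N) := f.toAlgebra
  haveI : IsScalarTower O R (S ⧸ mS O S ^ N) := IsScalarTower.of_algebraMap_eq fun r => rfl
  haveI : Module.Finite R (S ⧸ mS O S ^ N) := Module.Finite.of_restrictScalars_finite O R _
  exact IsArtinianRing.of_finite R _

theorem exists_jac_pow_le : ∃ c : ℕ, 0 < c ∧ (Ideal.jacobson (⊥ : Ideal S)) ^ c ≤ mS O S := by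
  haveI : IsArtinianRing (S ⧸ mS O S) := pow_one (mS O S) ▸ isArtinian_quot O S 1
  obtain ⟨c, hc⟩ := IsArtinianRing.isNilpotent_jacobson_bot (R := S ⧸ mS O S)
  refine ⟨c + 1, c.succ_pos, (Ideal.pow_le_pow_right (Nat.le_succ c)).trans ?_⟩
  have h : (Ideal.jacobson (⊥ : Ideal S)).map (Ideal.Quotient.mk (mS O S)) ≤ Ideal.jacobson ⊥ :=
    Ideal.map_le_iff_le_comap.2 fun x hx => by
      rw [Ideal.mem_comap, Ideal.mem_jacobson_bot]
      intro y
      obtain ⟨z, rfl⟩ := Ideal.Quotient.mk_surjective y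
      rw [← map_mul, ← map_one (Ideal.Quotient.mk (mS O S)), ← map_add]
      exact (Ideal.mem_jacobson_bot.1 hx z).map _
  rw [← Ideal.mk_ker (I := mS O S), ← Ideal.map_eq_bot_iff_le_ker, Ideal.map_pow, eq_bot_iff]
  exact (Ideal.pow_right_mono h c).trans hc.le

include O in
theorem isAdicComplete_jac : IsAdicComplete (Ideal.jacobson (⊥ : Ideal S)) S := by
  haveI := isAdicComplete_mS O S
  obtain ⟨c, hc, h⟩ := exists_jac_pow_le O S
  exact (AdicLib.iff_of_pow_le (I := mS O S) (J := Ideal.jacobson (⊥ : Ideal S)) (c := 1) (d := c) Nat.one_pos hc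
    (by simpa using mS_le_jac O S) h).1 inferInstance

/-- Ideals are closed. -/
theorem mem_of_forall_sup {E : Ideal S} {x : S} (h : ∀ N, x ∈ E ⊔ mS O S ^ N) : x ∈ E := by
  haveI := isNoetherian_S O S
  haveI : IsHausdorff ((mS O S).map (Ideal.Quotient.mk E)) (S ⧸ E) :=
    IsHausdorff.of_le_jacobson _ _ (Ideal.map_le_iff_le_comap.2 fun y hy => by
      rw [Ideal.mem_comap, Ideal.mem_jacobson_bot]
      intro z
      obtain ⟨t, rfl⟩ := Ideal.Quotient.mk_surjective z
      rw [← map_mul, ← map_one (Ideal.Quotient.mk E), ← map_add]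
      exact (Ideal.mem_jacobson_bot.1 (mS_le_jac O S hy) t).map _)
  rw [← Ideal.Quotient.eq_zero_iff_mem]
  refine IsHausdorff.haus (I := (mS O S).map (Ideal.Quotient.mk E)) inferInstance _ fun N => ?_
  rw [SModEq.zero, smul_eq_mul, Ideal.mul_top, ← Ideal.map_pow]
  obtain ⟨e, he, y, hy, rfl⟩ := Submodule.mem_sup.1 (h N)
  rw [map_add, Ideal.Quotient.eq_zero_iff_mem.2 he, zero_add]
  exact Ideal.mem_map_of_mem _ hy

/-- Chevalley's lemma. -/
theorem chevalley (K : ℕ → Ideal S) (hanti : ∀ {p q}, p ≤ q → K q ≤ K p) (hbot : ⨅ p, K p = ⊥) (N : ℕ) :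
    ∃ q, K q ≤ mS O S ^ N := by
  haveI := isAdicComplete_mS O S
  have := fun n => isArtinian_quot O S n
  choose Q hQ using fun n => ArtFunLib.Hull.exists_stable (mS O S ^ n) K hanti
  refine ⟨Q N, fun x hx => ?_⟩
  have step : ∀ n y, y ∈ K (Q n) ⊔ mS O S ^ n →
      ∃ z ∈ K (Q (n + 1)) ⊔ mS O S ^ (n + 1), z - y ∈ mS O S ^ n := by
    intro n y hy
    have h : K (Q n) ⊔ mS O S ^ n ≤ K (Q (n + 1)) ⊔ mS O S ^ n := by
      refine sup_le ?_ le_sup_right
      exact (hQ n (max (Q n) (Q (n + 1))) (le_max_left _ _)).trans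
        (sup_le_sup_right (hanti (le_max_right _ _)) _)
    obtain ⟨a, ha, b, hb, rfl⟩ := Submodule.mem_sup.1 (h hy)
    exact ⟨a, Ideal.mem_sup_left ha, by simpa using hb⟩
  choose g hg hg' using step
  let seq : ∀ i : ℕ, {y : S // y ∈ K (Q (N + i)) ⊔ mS O S ^ (N + i)} := fun i =>
    Nat.rec ⟨x, Ideal.mem_sup_left hx⟩ (fun i y => ⟨g _ y.1 y.2, hg _ y.1 y.2⟩) i
  have hs : ∀ i j, i ≤ j → (seq j).1 - (seq i).1 ∈ mS O S ^ (N + i) := by
    intro i j hij
    induction j, hij using Nat.le_induction with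
    | base => simp
    | succ j hij ih =>
      have h1 : (seq (j + 1)).1 - (seq j).1 ∈ mS O S ^ (N + i) :=
        Ideal.pow_le_pow_right (by omega) (hg' (N + j) (seq j).1 (seq j).2)
      simpa using add_mem h1 ih
  obtain ⟨L, hL⟩ := IsPrecomplete.prec' (I := mS O S) (fun i => (seq i).1) fun {i j} hij => by
    rw [SModEq.sub_mem, Ideal.smul_eq_mul, Ideal.mul_top, ← neg_mem_iff, neg_sub]
    exact Ideal.pow_le_pow_right (by omega) (hs i j hij)
  have hL' : ∀ i, (seq i).1 - L ∈ mS O S ^ i := fun i => by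
    have := hL i
    rwa [SModEq.sub_mem, Ideal.smul_eq_mul, Ideal.mul_top] at this
  have hLmem : L ∈ ⨅ p, K p := by
    refine (Submodule.mem_iInf _).2 fun p => mem_of_forall_sup O S fun M => ?_
    have h1 : (seq M).1 ∈ K p ⊔ mS O S ^ M := by
      have h2 : K (Q (N + M)) ≤ K p ⊔ mS O S ^ (N + M) :=
        (hQ (N + M) (max (Q (N + M)) p) (le_max_left _ _)).trans
          (sup_le_sup_right (hanti (le_max_right _ _)) _)
      exact (sup_le_sup_left (Ideal.pow_le_pow_right (show M ≤ N + M by omega)) (K p))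
        ((sup_le h2 le_sup_right) (seq M).2)
    simpa using sub_mem h1 (Ideal.mem_sup_right (hL' M) : (seq M).1 - L ∈ K p ⊔ mS O S ^ M)
  rw [hbot, Submodule.mem_bot] at hLmem
  subst hLmem
  have h2 : (seq N).1 - (seq 0).1 ∈ mS O S ^ N := hs 0 N (Nat.zero_le _)
  simpa [seq] using sub_mem (hL' N) h2

theorem exists_dpPow_le {I : Ideal S} {hI : DividedPowers I} (htn : W4c1noabschz1.IsDPTopNilpotent hI)
    (N : ℕ) : ∃ q, W4c1noabschz1.dpPow hI q ≤ mS O S ^ N :=
  chevalley O S (W4c1noabschz1.dpPow hI) (fun h => dpPow_anti hI h) htn N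

include O in
/-- The ideal of topologically nilpotent divided powers lies in the Jacobson radical. -/
theorem le_jac_of_topNilpotent {I : Ideal S} {hI : DividedPowers I}
    (htn : W4c1noabschz1.IsDPTopNilpotent hI) : I ≤ Ideal.jacobson (⊥ : Ideal S) := by
  intro x hx
  obtain ⟨q, hq⟩ := exists_dpPow_le O S htn 1
  have h1 : x ^ q ∈ Ideal.jacobson (⊥ : Ideal S) := mS_le_jac O S (by
    rw [← hI.factorial_mul_dpow_eq_pow hx]
    simpa using Ideal.mul_mem_left _ _ (hq (dpow_mem_dpPow hI hx q)))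
  exact (Ideal.IsRadical.radical (Ideal.isRadical_jacobson (I := (⊥ : Ideal S))) ) ▸ ⟨q, h1⟩

variable {O S} {m : ℕ}

/-- A map from power series sends the variables into the radical. -/
theorem map_X_mem_jac (φ : MvPowerSeries (Fin m) O →ₐ[O] S) (i : Fin m) :
    φ (X i) ∈ Ideal.jacobson (⊥ : Ideal S) := by
  rw [Ideal.jacobson, Submodule.mem_sInf]
  rintro M ⟨-, hM⟩
  haveI : Ideal.IsMaximal M := hM
  let g : MvPowerSeries (Fin m) O →ₐ[O] S ⧸ M := (Ideal.Quotient.mkₐ O M).comp φ
  letI : Algebra (MvPowerSeries (Fin m) O) (S ⧸ M) := g.toRingHom.toAlgebra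
  haveI : IsScalarTower O (MvPowerSeries (Fin m) O) (S ⧸ M) :=
    IsScalarTower.of_algebraMap_eq fun r => (g.commutes r).symm
  haveI : Module.Finite (MvPowerSeries (Fin m) O) (S ⧸ M) :=
    Module.Finite.of_restrictScalars_finite O _ _
  letI := Ideal.Quotient.field M
  have hk : (RingHom.ker g.toRingHom).IsMaximal :=
    Ideal.isMaximal_comap_of_isIntegral_of_isMaximal (R := MvPowerSeries (Fin m) O) (⊥ : Ideal (S ⧸ M))
  have h1 : X i ∈ RingHom.ker g.toRingHom := by
    rw [IsLocalRing.eq_maximalIdeal hk, mem_maximalIdeal, mem_nonunits_iff,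
      MvPowerSeries.isUnit_iff_constantCoeff, constantCoeff_X]
    exact not_isUnit_zero
  exact Ideal.Quotient.eq_zero_iff_mem.1 h1

/-- Maps out of power series agreeing on the variables modulo an ideal agree modulo it. -/
theorem sub_mem_of_X (φ ψ : MvPowerSeries (Fin m) O →ₐ[O] S) (E : Ideal S)
    (h : ∀ i, φ (X i) - ψ (X i) ∈ E) (p : MvPowerSeries (Fin m) O) : φ p - ψ p ∈ E := by
  haveI := isNoetherian_S O S
  let J : Ideal (S ⧸ E) := (Ideal.jacobson (⊥ : Ideal S)).map (Ideal.Quotient.mk E)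
  haveI : IsHausdorff J (S ⧸ E) :=
    IsHausdorff.of_le_jacobson _ _ (Ideal.map_le_iff_le_comap.2 fun y hy => by
      rw [Ideal.mem_comap, Ideal.mem_jacobson_bot]
      intro z
      obtain ⟨t, rfl⟩ := Ideal.Quotient.mk_surjective z
      rw [← map_mul, ← map_one (Ideal.Quotient.mk E), ← map_add]
      exact (Ideal.mem_jacobson_bot.1 hy t).map _)
  have := PSLib.algHom_ext (I := J) ((Ideal.Quotient.mkₐ O E).comp φ) ((Ideal.Quotient.mkₐ O E).comp ψ)
    (fun i => Ideal.mem_map_of_mem _ (map_X_mem_jac φ i)) (fun i => Ideal.Quotient.eq.2 (h i))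
  exact Ideal.Quotient.eq.1 (AlgHom.congr_fun this p)

/-- First order expansion of the difference of two maps. -/
theorem sub_sub_sum_mem (θ θ' : MvPowerSeries (Fin m) O →ₐ[O] S) (E : Ideal S)
    (h : ∀ i j, (θ' (X i) - θ (X i)) * (θ' (X j) - θ (X j)) ∈ E) (p : MvPowerSeries (Fin m) O) :
    θ' p - θ p - ∑ l, θ (pderiv O l p) * (θ' (X l) - θ (X l)) ∈ E := by
  classical
  haveI := isNoetherian_S O S
  let J : Ideal (S ⧸ E) := (Ideal.jacobson (⊥ : Ideal S)).map (Ideal.Quotient.mk E)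
  haveI : IsHausdorff J (S ⧸ E) :=
    IsHausdorff.of_le_jacobson _ _ (Ideal.map_le_iff_le_comap.2 fun y hy => by
      rw [Ideal.mem_comap, Ideal.mem_jacobson_bot]
      intro z
      obtain ⟨t, rfl⟩ := Ideal.Quotient.mk_surjective z
      rw [← map_mul, ← map_one (Ideal.Quotient.mk E), ← map_add]
      exact (Ideal.mem_jacobson_bot.1 hy t).map _)
  let δ : MvPowerSeries (Fin m) O → S := fun q => ∑ l, θ (pderiv O l q) * (θ' (X l) - θ (X l))
  have hδadd : ∀ q q', δ (q + q') = δ q + δ q' := fun q q' => by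
    simp [δ, add_mul, Finset.sum_add_distrib]
  have hδmul : ∀ q q', δ (q * q') = θ q * δ q' + θ q' * δ q := fun q q' => by
    simp [δ, Derivation.leibniz, add_mul, Finset.sum_add_distrib, Finset.mul_sum, mul_assoc]
  have hδδ : ∀ q q', δ q * δ q' ∈ E := fun q q' => by
    simp only [δ, Finset.sum_mul_sum]
    refine Submodule.sum_mem _ fun i _ => Submodule.sum_mem _ fun j _ => ?_
    rw [mul_mul_mul_comm]
    exact Ideal.mul_mem_left _ _ (h i j)
  let ψ : MvPowerSeries (Fin m) O →ₐ[O] S ⧸ E :=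
    { toFun := fun q => Ideal.Quotient.mk E (θ q + δ q)
      map_one' := by simp [δ, Derivation.map_one_eq_zero]
      map_mul' := fun q q' => by
        rw [← map_mul, Ideal.Quotient.eq, hδmul, map_mul]
        have : θ q * θ q' + (θ q * δ q' + θ q' * δ q) - (θ q + δ q) * (θ q' + δ q') = -(δ q * δ q') := by
          ring
        rw [this]
        exact neg_mem (hδδ q q')
      map_zero' := by simp [δ]
      map_add' := fun q q' => by simp only [hδadd, map_add]; abel
      commutes' := fun c => by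
        simp [δ, Derivation.map_algebraMap] }
  have := PSLib.algHom_ext (I := J) ((Ideal.Quotient.mkₐ O E).comp θ') ψ
    (fun i => Ideal.mem_map_of_mem _ (map_X_mem_jac θ' i)) (fun i => by
      show Ideal.Quotient.mk E (θ' (X i)) = Ideal.Quotient.mk E (θ (X i) + δ (X i))
      congr 1
      simp only [δ]
      rw [Finset.sum_eq_single i (fun l _ hl => by rw [pderiv_X_of_ne (Ne.symm hl), map_zero, zero_mul])
        (fun hi => absurd (Finset.mem_univ i) hi), pderiv_X_self, map_one, one_mul]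
      ring)
  have h1 := Ideal.Quotient.eq.1 (AlgHom.congr_fun this p : Ideal.Quotient.mk E (θ' p) = Ideal.Quotient.mk E (θ p + δ p))
  rwa [sub_sub]

/-- A map modulo an ideal of the radical lifts. -/
theorem exists_lift (E : Ideal S) (hE : E ≤ Ideal.jacobson (⊥ : Ideal S))
    (ψ : MvPowerSeries (Fin m) O →ₐ[O] S ⧸ E) :
    ∃ θ : MvPowerSeries (Fin m) O →ₐ[O] S, ∀ p, Ideal.Quotient.mk E (θ p) = ψ p := by
  haveI := isNoetherian_S O S
  haveI := isAdicComplete_jac O S
  choose s hs using fun i => Ideal.Quotient.mk_surjective (ψ (X i))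
  haveI : Module.Finite O (S ⧸ E) := Module.Finite.of_surjective (Ideal.Quotient.mkₐ O E).toLinearMap
    (Ideal.Quotient.mkₐ_surjective O E)
  have hsj : ∀ i, s i ∈ Ideal.jacobson (⊥ : Ideal S) := fun i => by
    have h1 := map_X_mem_jac ψ i
    rw [← hs] at h1
    rw [Ideal.jacobson, Submodule.mem_sInf]
    rintro (M : Ideal S) ⟨-, hM⟩
    have hEM : E ≤ M := hE.trans (sInf_le ⟨bot_le, hM⟩)
    have hM' : (M.map (Ideal.Quotient.mk E)).IsMaximal :=
      Ideal.IsMaximal.map_of_surjective_of_ker_le Ideal.Quotient.mk_surjective (by rwa [Ideal.mk_ker])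
    have h2 : Ideal.Quotient.mk E (s i) ∈ M.map (Ideal.Quotient.mk E) :=
      (Submodule.mem_sInf.1 h1) _ ⟨bot_le, hM'⟩
    rwa [← Ideal.mem_comap, Ideal.comap_map_of_surjective' _ Ideal.Quotient.mk_surjective, Ideal.mk_ker,
      sup_eq_left.2 hEM] at h2
  obtain ⟨θ, hθ⟩ := PSLib.exists_algHom (R := O) (Ideal.jacobson (⊥ : Ideal S)) s hsj
  refine ⟨θ, fun p => ?_⟩
  haveI : IsNoetherianRing (S ⧸ E) := inferInstance
  haveI : IsHausdorff (Ideal.jacobson (⊥ : Ideal (S ⧸ E))) (S ⧸ E) :=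
    IsHausdorff.of_le_jacobson _ _ le_rfl
  have := PSLib.algHom_ext (I := Ideal.jacobson (⊥ : Ideal (S ⧸ E))) ((Ideal.Quotient.mkₐ O E).comp θ) ψ
    (fun i => map_X_mem_jac _ i) (fun i => by
      show Ideal.Quotient.mk E (θ (X i)) = _
      rw [hθ, hs])
  exact AlgHom.congr_fun this p

end Groth.Agent.FontLift
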